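import Cfsg.Agent.Lib.KnownB.PSUAut.Out
import Cfsg.Agent.Lib.Components.FStar

/-!
The automorphism group of PSU(6,2) has at most six times as many elements; a self-centralising
quasisimple normal subgroup is the generalised Fitting subgroup.
-/

set_option autoImplicit false

namespace CfsgLib.KnownB.TypeM24.Triple

open Cfsg CfsgLib.KnownB

theorem card_autF {F : Type} [Field F] [Fintype F] (hF : Fintype.card F = 4) : Nat.card (F ≃+* F) ≤ 2 := by
  classical
  obtain ⟨a, ha0, ha1⟩ : ∃ a : F, a ≠ 0 ∧ a ≠ 1 := by
    by_contra h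
    push Not at h
    have : (Finset.univ : Finset F) ⊆ {0, 1} := fun x _ => by
      rcases eq_or_ne x 0 with r | r
      · simp [r]
      · simp [h x r]
    have := Finset.card_le_card this
    rw [Finset.card_univ, hF, Finset.card_pair zero_ne_one] at this
    omega
  have h2 : Nat.card {x : F // x ≠ 0 ∧ x ≠ 1} = 2 := by
    rw [Nat.card_eq_fintype_card, Fintype.card_subtype,
      show (Finset.univ.filter fun x : F => x ≠ 0 ∧ x ≠ 1) = Finset.univ \ {0, 1} by ext x; simp,
      Finset.card_sdiff, Finset.card_univ, hF, Finset.inter_univ, Finset.card_pair zero_ne_one]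
  let f : (F ≃+* F) → {x : F // x ≠ 0 ∧ x ≠ 1} := fun τ => ⟨τ a, by simpa using ha0, fun h => ha1 (by simpa using h)⟩
  have hf : Function.Injective f := by
    intro τ υ h
    have ha : τ a = υ a := congrArg Subtype.val h
    refine RingEquiv.ext fun x => ?_
    have hx : x = 0 ∨ x = 1 ∨ x = a ∨ x = a + 1 := by
      have hcard : ({0, 1, a, a + 1} : Finset F).card = 4 := by
        have h11 : (1 : F) + 1 = 0 := by
          obtain ⟨p, hp⟩ := CharP.exists F
          haveI := hp
          have hd : (4 : F) = 0 := by exact_mod_cast hF ▸ Nat.cast_card_eq_zero F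
          have : ((1 : F) + 1) * (1 + 1) = 0 := by rw [← hd]; ring
          exact mul_self_eq_zero.1 this
        have e1 : a + 1 ≠ 0 := fun e => ha1 (by linear_combination e - h11)
        rw [Finset.card_insert_of_notMem, Finset.card_insert_of_notMem, Finset.card_pair]
        · simp
        · simp [Ne.symm ha1, ha0]
        · simp [Ne.symm ha0, e1.symm]
      have := Finset.eq_univ_of_card _ (hcard.trans hF.symm) ▸ Finset.mem_univ x
      simpa using this
    rcases hx with rfl | rfl | rfl | rfl <;> simp [ha]
  exact (Nat.card_le_card_of_injective f hf).trans h2.le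

/-- `Out PSU(6,2)` has at most six elements. -/
theorem card_mulAut {F : Type} [Field F] [Fintype F] (hF : Fintype.card F = 4) :
    Nat.card (MulAut (PSU 6 F 2)) ≤ 6 * Nat.card (PSU 6 F 2) := by
  haveI : Fact (Nat.Prime 2) := ⟨Nat.prime_two⟩
  obtain ⟨σ, S⟩ := PSUAut.exists_setting (p := 2) (q := 2) (f := 1) (n := 6) (by norm_num) le_rfl (hF.trans (by norm_num)) (by norm_num)
  obtain ⟨φ, hφ, -, hk⟩ := S.out_structure (by norm_num) (by norm_num)
  haveI : Finite (F ≃+* F) := Finite.of_injective (fun τ => (τ : F → F)) DFunLike.coe_injective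
  have hout : Nat.card (Out (PSU 6 F 2)) ≤ 6 := by
    rw [Subgroup.card_eq_card_quotient_mul_card_subgroup φ.ker,
      Nat.card_congr (QuotientGroup.quotientKerEquivOfSurjective φ hφ).toEquiv, hk]
    exact (Nat.mul_le_mul_right _ (card_autF hF)).trans (by norm_num)
  rw [Subgroup.card_eq_card_quotient_mul_card_subgroup (Inn (PSU 6 F 2))]
  exact Nat.mul_le_mul hout (Finite.card_range_le (MulAut.conj : PSU 6 F 2 →* MulAut (PSU 6 F 2)))

variable {X : Type*} [Group X]

/-- A self-centralising quasisimple normal subgroup is the generalised Fitting subgroup. -/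
theorem fstar_eq [Finite X] (N : Subgroup X) [N.Normal] (hN : IsQuasisimple ↥N)
    (hC : Subgroup.centralizer (N : Set X) ≤ N) : generalizedFittingSubgroup X = N := by
  have hc : IsComponent N := ⟨Subgroup.Normal.isSubnormal inferInstance, hN⟩
  refine le_antisymm ?_ ((Components.component_le_layer hc).trans Components.layer_le_fstar)
  rw [generalizedFittingSubgroup]
  refine sup_le (Components.layer_le_iff.2 fun K hK => ?_) ?_
  · by_contra hle
    exact hle ((Subgroup.commutator_eq_bot_iff_le_centralizer.1
      (Components.component_commutator_eq_bot_of_not_le hK hc.1 hle)).trans hC)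
  · refine (Subgroup.commutator_eq_bot_iff_le_centralizer.1 (le_bot_iff.1 ?_)).trans hC
    rw [Subgroup.commutator_comm]
    exact (Subgroup.commutator_mono (Components.component_le_layer hc) le_rfl).trans
      Components.layer_commutator_fitting.le

/-- An element acting trivially on a perfect group modulo its centre centralises it. -/
theorem centralizes_of_central (N : Subgroup X) (hperf : ⁅(⊤ : Subgroup ↥N), (⊤ : Subgroup ↥N)⁆ = (⊤ : Subgroup ↥N)) {c : X}
    (hc : ∀ k : N, ∃ z : N, z ∈ Subgroup.center ↥N ∧ c * k * c⁻¹ = (z : X) * k) (k : N) : c * k * c⁻¹ = k := by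
  choose z hz hck using hc
  have hmul : ∀ a b : N, z (a * b) = z a * z b := fun a b => by
    refine mul_right_cancel (b := a * b) (Subtype.ext ?_)
    have h1 : (z a * z b) * (a * b) = (z a * a) * (z b * b) := by
      rw [mul_assoc, ← mul_assoc (z b), ← Subgroup.mem_center_iff.1 (hz b) a, mul_assoc, mul_assoc]
    rw [h1]
    show (z (a * b) : X) * (a * b : N) = ((z a : X) * a) * ((z b : X) * b)
    rw [← hck, ← hck, ← hck, Subgroup.coe_mul]
    group
  let f : N →* Subgroup.center ↥N := MonoidHom.mk' (fun a => ⟨z a, hz a⟩) fun a b => Subtype.ext (hmul a b)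
  have h1 : (⊤ : Subgroup ↥N) ≤ f.ker := by
    rw [← hperf, Subgroup.commutator_le]
    intro a _ b _
    rw [MonoidHom.mem_ker, map_commutatorElement, commutatorElement_eq_one_iff_mul_comm]
    exact Subtype.ext ((Subgroup.mem_center_iff.1 (f b).2 (f a : N)))
  have h2 : z k = 1 := congrArg Subtype.val (MonoidHom.mem_ker.1 (h1 (Subgroup.mem_top k)))
  rw [hck k, h2, Subgroup.coe_one, one_mul]

end CfsgLib.KnownB.TypeM24.Triple
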