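import Cfsg.Agent.Lib.KnownB.TypeM24Unique.Main

/-!
Triples of commuting members in a group of type M(24): transitivity, and the joint centraliser in the
derived group is the pair centraliser of the quotient of type M(23).
-/

set_option autoImplicit false

namespace CfsgLib.KnownB.TypeM24.Triple

open Cfsg CfsgLib.ThreeTransp CfsgLib.Involutions
open CfsgLib.KnownB.TypeM22 CfsgLib.KnownB.TypeM23

universe u

variable {G : Type u} [Group G] [Finite G] {D : Set G}

/-- three pairwise commuting distinct members -/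
structure Tri (D : Set G) (t : Fin 3 → G) : Prop where
  mem : ∀ i, t i ∈ D
  inj : Function.Injective t
  comm : ∀ i j, Commute (t i) (t j)

theorem Tri.nb_mem {t : Fin 3 → G} (T : Tri D t) {i j : Fin 3} (h : j ≠ i) : t j ∈ nb D (t i) :=
  ⟨T.mem j, fun e => h (T.inj e), T.comm i j⟩

theorem conj_mem_nb (S : Unique.Setting24 D) {d g y : G} (hy : y ∈ nb D d) (hg : Commute g d) :
    g * y * g⁻¹ ∈ nb D d := TypeM22.conj_nb S.weak hg hy

/-- An element moving the quotient image of a partner to itself fixes it. -/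
theorem fix_of_qd (S : Unique.Setting24 D) {d x y y' : G} (hd : d ∈ D) (hx : x ∈ Subgroup.closure (nb D d))
    (hy : y ∈ nb D d) (hy' : y' ∈ nb D d) (h : qd D d x * qd D d y * (qd D d x)⁻¹ = qd D d y') :
    x * y * x⁻¹ = y' :=
  S.qd_inj hd (conj_mem_nb S hy (commute_closure_nb hx)) hy' (by rw [qd_conj hx (mem_H hy), h])

/-- Commuting triples are conjugate. -/
theorem trans (hD : IsThreeTranspositionGroup D) (hp : IsPrimitiveUnderConj D) (ht : IsOfTypeM24 G D)
    {t u : Fin 3 → G} (T : Tri D t) (U : Tri D u) : ∃ g : G, ∀ i, g * t i * g⁻¹ = u i := by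
  have S := Unique.setting_of hD hp ht
  obtain ⟨g, hg⟩ := S.cls.trans (t 0) (T.mem 0) (u 0) (U.mem 0)
  have hm : ∀ {j : Fin 3}, j ≠ 0 → g * t j * g⁻¹ ∈ nb D (u 0) := fun {j} hj =>
    hg ▸ S.weak.nb_conj g (T.nb_mem hj)
  obtain ⟨k, hk, hk1⟩ := S.cls.orb_nb S.prim (U.mem 0) (hm (j := 1) (by decide)) (U.nb_mem (i := 0) (j := 1) (by decide))
  obtain ⟨w, hw⟩ : ∃ w, w = k * (g * t 2 * g⁻¹) * k⁻¹ := ⟨_, rfl⟩
  have hwn : w ∈ nb D (u 0) := hw ▸ conj_mem_nb S (hm (j := 2) (by decide)) (commute_closure_nb hk)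
  have hwu : Commute (u 1) w := by
    rw [hw, ← hk1]
    exact (commute_conj_iff k).2 ((commute_conj_iff g).2 (T.comm 1 2))
  have hne : w ≠ u 1 := fun e => by
    rw [hw, ← hk1] at e
    exact absurd (T.inj (mul_left_cancel (mul_right_cancel (mul_left_cancel (mul_right_cancel e))))) (by decide)
  have hu1 := U.nb_mem (i := 0) (j := 1) (by decide)
  have hu2 := U.nb_mem (i := 0) (j := 2) (by decide)
  obtain ⟨z, hz, hz1⟩ := (S.quot (U.mem 0)).cls.orb_nb (S.quot (U.mem 0)).prim (qd_mem hu1)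
    ((S.pair_mem (U.mem 0) hu1 hwn).2 ⟨hwn, hwn.1, hne, hwu⟩)
    ((S.pair_mem (U.mem 0) hu1 hu2).2 ⟨hu2, U.nb_mem (by decide)⟩)
  obtain ⟨x, hx, rfl⟩ := qd_surj z
  have h1 : x * u 1 * x⁻¹ = u 1 := fix_of_qd S (U.mem 0) hx hu1 hu1
    (by rw [(commute_closure_nb hz).eq, mul_inv_cancel_right])
  have h2 : x * w * x⁻¹ = u 2 := fix_of_qd S (U.mem 0) hx hwn hu2 hz1
  refine ⟨x * k * g, fun i => ?_⟩
  have hconj : ∀ y : G, x * k * g * y * (x * k * g)⁻¹ = x * (k * (g * y * g⁻¹) * k⁻¹) * x⁻¹ := fun y => by group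
  rw [hconj]
  fin_cases i
  · show x * (k * (g * t 0 * g⁻¹) * k⁻¹) * x⁻¹ = u 0
    rw [hg, (commute_closure_nb hk).eq, mul_inv_cancel_right, (commute_closure_nb hx).eq, mul_inv_cancel_right]
  · show x * (k * (g * t 1 * g⁻¹) * k⁻¹) * x⁻¹ = u 1
    rw [hk1, h1]
  · show x * (k * (g * t 2 * g⁻¹) * k⁻¹) * x⁻¹ = u 2
    rw [← hw, h2]

theorem not_mem_commutator (hD : IsThreeTranspositionGroup D) (hp : IsPrimitiveUnderConj D) (ht : IsOfTypeM24 G D)
    {d : G} (hd : d ∈ D) : d ∉ commutator G := fun h => by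
  have S := Unique.setting_of hD hp ht
  have htop : commutator G = ⊤ := eq_top_iff.2 (S.cls.gen ▸ (Subgroup.closure_le _).2 fun y hy => by
    obtain ⟨g, hg⟩ := S.cls.trans d hd y hy
    exact hg ▸ Subgroup.Normal.conj_mem inferInstance d h g)
  obtain ⟨e, -⟩ := exists_iso_fi24 hD hp ht
  have hmap : (commutator G).map e.toMonoidHom = commutator Cfsg.Spor.Fi24 := by
    rw [commutator_def, Subgroup.map_commutator, Subgroup.map_top_of_surjective _ e.surjective, commutator_def]
  have h2 := CfsgLib.Spor.Fi24.index_commutator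
  rw [← hmap, htop, Subgroup.map_top_of_surjective _ e.surjective, Subgroup.index_top] at h2
  omega

theorem index_commutator (hD : IsThreeTranspositionGroup D) (hp : IsPrimitiveUnderConj D) (ht : IsOfTypeM24 G D) :
    (commutator G).index = 2 := by
  obtain ⟨e, -⟩ := exists_iso_fi24 hD hp ht
  have hmap : (commutator G).map e.toMonoidHom = commutator Cfsg.Spor.Fi24 := by
    rw [commutator_def, Subgroup.map_commutator, Subgroup.map_top_of_surjective _ e.surjective, commutator_def]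
  rw [← Subgroup.index_map_equiv (H := commutator G) e]
  exact hmap ▸ CfsgLib.Spor.Fi24.index_commutator

/-- The joint centraliser in the derived group is the pair centraliser of the quotient. -/
theorem pair_equiv (hD : IsThreeTranspositionGroup D) (hp : IsPrimitiveUnderConj D) (ht : IsOfTypeM24 G D)
    {a b c : G} (ha : a ∈ D) (hb : b ∈ nb D a) (hc : c ∈ nb D a) (hbc : c ∈ nb D b) :
    ∃ κ : ↥(commutator G ⊓ Subgroup.centralizer ({a, b, c} : Set G)) ≃*
        ↥(Subgroup.closure (pnb (Dq D a) (qd D a b) (qd D a c))),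
      ∀ x, (κ x : Qd D a) = qd D a (x : G) := by
  have S := Unique.setting_of hD hp ht
  have hcl := centralizer_eq hD hp ht ha
  have hqc : qd D a c ∈ nb (Dq D a) (qd D a b) := (S.pair_mem ha hb hc).2 ⟨hc, hbc⟩
  have hpair := (S.quot ha).centralizer_pair (qd_mem hb) hqc
  have hH : ∀ {x : G}, x ∈ commutator G ⊓ Subgroup.centralizer ({a, b, c} : Set G) →
      x ∈ Subgroup.closure (nb D a) ∧ x * b * x⁻¹ = b ∧ x * c * x⁻¹ = c := fun {x} hx => by
    have h := Subgroup.mem_centralizer_iff.1 hx.2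
    refine ⟨?_, ?_, ?_⟩
    · rw [hcl, Subgroup.mem_centralizer_singleton_iff]
      exact (h a (by simp)).symm
    · rw [← h b (by simp), mul_inv_cancel_right]
    · rw [← h c (by simp), mul_inv_cancel_right]
  have hto : ∀ x : ↥(commutator G ⊓ Subgroup.centralizer ({a, b, c} : Set G)),
      qd D a (x : G) ∈ Subgroup.closure (pnb (Dq D a) (qd D a b) (qd D a c)) := fun x => by
    obtain ⟨h1, h2, h3⟩ := hH x.2
    rw [← hpair, Subgroup.mem_centralizer_iff]
    rintro z (rfl | rfl)
    · refine (mul_inv_eq_iff_eq_mul.1 ?_).symm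
      rw [← qd_conj h1 (mem_H hb), h2]
    · refine (mul_inv_eq_iff_eq_mul.1 ?_).symm
      rw [← qd_conj h1 (mem_H hc), h3]
  obtain ⟨f, hf⟩ : ∃ f : ↥(commutator G ⊓ Subgroup.centralizer ({a, b, c} : Set G)) →*
      ↥(Subgroup.closure (pnb (Dq D a) (qd D a b) (qd D a c))), ∀ x, (f x : Qd D a) = qd D a (x : G) :=
    ⟨MonoidHom.mk' (fun x => ⟨qd D a (x : G), hto x⟩) fun x y => Subtype.ext (qd_mul (hH x.2).1 (hH y.2).1),
      fun _ => rfl⟩
  have hinj : Function.Injective f := by
    rw [← MonoidHom.ker_eq_bot_iff, Subgroup.eq_bot_iff_forall]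
    intro x hx
    have h1 := hf x
    rw [MonoidHom.mem_ker.1 hx, Subgroup.coe_one] at h1
    exact Subtype.ext ((S.center_cases ha (hH x.2).1 h1.symm).resolve_right fun e =>
      not_mem_commutator hD hp ht ha (e ▸ x.2.1))
  have hsurj : Function.Surjective f := fun z => by
    obtain ⟨x, hx, hxz⟩ := qd_surj (z : Qd D a)
    have hzc := Subgroup.mem_centralizer_iff.1 (hpair.symm ▸ z.2 :
      (z : Qd D a) ∈ Subgroup.centralizer ({qd D a b, qd D a c} : Set (Qd D a)))
    have hfix : ∀ y ∈ nb D a, qd D a y * (z : Qd D a) = (z : Qd D a) * qd D a y → y * x = x * y := fun y hy h => by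
      have := fix_of_qd S ha hx hy hy (by rw [hxz, ← h, mul_inv_cancel_right])
      exact (mul_inv_eq_iff_eq_mul.1 this).symm
    have hxC : x ∈ Subgroup.centralizer ({a, b, c} : Set G) := by
      rw [Subgroup.mem_centralizer_iff]
      rintro y (rfl | rfl | rfl)
      exacts [(commute_closure_nb hx).eq.symm, hfix _ hb (hzc _ (by simp)), hfix _ hc (hzc _ (by simp))]
    by_cases hL : x ∈ commutator G
    · exact ⟨⟨x, hL, hxC⟩, Subtype.ext ((hf _).trans hxz)⟩
    · have haC : a ∈ Subgroup.centralizer ({a, b, c} : Set G) := by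
        rw [Subgroup.mem_centralizer_iff]
        rintro y (rfl | rfl | rfl)
        exacts [rfl, hb.2.2.eq.symm, hc.2.2.eq.symm]
      have hxa : x * a ∈ commutator G := (Subgroup.mul_mem_iff_of_index_two (index_commutator hD hp ht)).2
        (iff_of_false hL (not_mem_commutator hD hp ht ha))
      refine ⟨⟨x * a, hxa, mul_mem hxC haC⟩, Subtype.ext ((hf _).trans ?_)⟩
      rw [qd_mul hx (S.self_mem ha), S.qd_self ha, mul_one, hxz]
  exact ⟨MulEquiv.ofBijective f ⟨hinj, hsurj⟩, hf⟩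

end CfsgLib.KnownB.TypeM24.Triple
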