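import Cfsg.Agent.Lib.KnownB.TypeM24Triple.Aut
import Cfsg.Agent.Lib.KnownB.TypeM24Triple.Basic

/-!
The centraliser in the derived group of a product of three commuting members of a group of type M(24).
-/

set_option autoImplicit false

namespace CfsgLib.KnownB.TypeM24.Triple

open Cfsg CfsgLib.ThreeTransp CfsgLib.Involutions
open CfsgLib.KnownB.TypeM22 CfsgLib.KnownB.TypeM23

universe u

variable {G : Type u} [Group G] [Finite G] {D : Set G}

theorem prod_perm {t : Fin 3 → G} (hc : ∀ i j, Commute (t i) (t j)) (σ : Equiv.Perm (Fin 3)) :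
    t (σ 0) * t (σ 1) * t (σ 2) = t 0 * t 1 * t 2 := by
  have h := (Equiv.Perm.ofFn_comp_perm σ t).prod_eq' (by
    rw [List.pairwise_ofFn]; exact fun i j _ => hc _ _)
  simpa [List.ofFn_succ, mul_assoc] using h

/-- Triples with equal products are equal as sets. -/
theorem Tri.eq_range (S : Unique.Setting24 D) {t s : Fin 3 → G} (T : Tri D t) (U : Tri D s)
    (h : s 0 * s 1 * s 2 = t 0 * t 1 * t 2) (i : Fin 3) : ∃ j, s i = t j := by
  have := (S.cls.product_unique S.prim S.partners (m := 3) le_rfl (j := t 0 * t 1 * t 2)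
    (l := [s 0, s 1, s 2]) (l' := [t 0, t 1, t 2])
    ⟨by simp [U.inj.eq_iff], rfl, by simp [U.mem], by simp [U.comm], by simp [← h, mul_assoc]⟩
    ⟨by simp [T.inj.eq_iff], rfl, by simp [T.mem], by simp [T.comm], by simp [mul_assoc]⟩ (s i)).1
      (by fin_cases i <;> simp)
  simp only [List.mem_cons, List.not_mem_nil, or_false] at this
  rcases this with r | r | r <;> exact ⟨_, r⟩

theorem conj_pair (S : Unique.Setting24 D) {a b g : G} (ha : a ∈ D) (hb : b ∈ nb D a) (h : g * (a * b) * g⁻¹ = a * b) :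
    g * a * g⁻¹ = a ∨ g * a * g⁻¹ = b := by
  have hne : a ≠ b := fun e => hb.2.1 e.symm
  have := (S.cls.product_unique S.prim S.partners (m := 2) (by norm_num) (j := a * b)
    (l := [g * a * g⁻¹, g * b * g⁻¹]) (l' := [a, b])
    ⟨by simp [hne], rfl, by simp [S.cls.conj g a ha, S.cls.conj g b hb.1],
      by simp [(commute_conj_iff g).2 hb.2.2, ((commute_conj_iff g).2 hb.2.2).symm], by rw [← h]; simp [mul_assoc]⟩
    ⟨by simp [hne], rfl, by simp [ha, hb.1], by simp [hb.2.2, hb.2.2.symm], by simp⟩ (g * a * g⁻¹)).1 (by simp)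
  simpa using this

/-- The centraliser of the four group in the derived group fixes the three members. -/
theorem cent_four (S : Unique.Setting24 D) {a b c : G} (ha : a ∈ D) (hb : b ∈ nb D a) (hc : c ∈ nb D a)
    (hbc : b ≠ c) {g : G} (hg : g ∈ Subgroup.centralizer (Subgroup.closure ({a * b, a * c} : Set G) : Set G)) :
    g ∈ Subgroup.centralizer ({a, b, c} : Set G) := by
  have h1 := Subgroup.mem_centralizer_iff.1 hg (a * b) (Subgroup.subset_closure (by simp))
  have h2 := Subgroup.mem_centralizer_iff.1 hg (a * c) (Subgroup.subset_closure (by simp))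
  have k1 : g * (a * b) * g⁻¹ = a * b := by rw [← h1, mul_inv_cancel_right]
  have k2 : g * (a * c) * g⁻¹ = a * c := by rw [← h2, mul_inv_cancel_right]
  have hga : g * a * g⁻¹ = a := by
    rcases conj_pair S ha hb k1 with r | r
    · exact r
    · rcases conj_pair S ha hc k2 with r' | r'
      · exact r'
      · exact absurd (r.symm.trans r') hbc
  have hrest : ∀ y, g * (a * y) * g⁻¹ = a * y → g * y * g⁻¹ = y := fun y hy => by
    rw [show g * (a * y) * g⁻¹ = g * a * g⁻¹ * (g * y * g⁻¹) by group, hga] at hy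
    exact mul_left_cancel hy
  rw [Subgroup.mem_centralizer_iff]
  rintro y (rfl | rfl | rfl)
  exacts [(mul_inv_eq_iff_eq_mul.1 hga).symm, (mul_inv_eq_iff_eq_mul.1 (hrest _ k1)).symm,
    (mul_inv_eq_iff_eq_mul.1 (hrest _ k2)).symm]

theorem Tri.four_le {t : Fin 3 → G} (T : Tri D t) :
    Subgroup.closure ({t 0 * t 1, t 0 * t 2} : Set G) ≤
      commutator G ⊓ Subgroup.centralizer ({t 0, t 1, t 2} : Set G) ↔
    t 0 * t 1 ∈ commutator G ∧ t 0 * t 2 ∈ commutator G := by
  constructor
  · exact fun h => ⟨(h (Subgroup.subset_closure (by simp))).1, (h (Subgroup.subset_closure (by simp))).1⟩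
  · rintro ⟨h1, h2⟩
    rw [Subgroup.closure_le]
    rintro x (rfl | rfl) <;> refine ⟨by assumption, Subgroup.mem_centralizer_iff.2 ?_⟩ <;>
      rintro y (rfl | rfl | rfl) <;> exact ((T.comm _ _).mul_right (T.comm _ _)).eq

/-- The four group is the centre of the joint centraliser, which is quasisimple over PSU(6,2). -/
theorem kernel_facts (hD : IsThreeTranspositionGroup D) (hp : IsPrimitiveUnderConj D) (ht : IsOfTypeM24 G D)
    {t : Fin 3 → G} (T : Tri D t) (K : Subgroup G)
    (hK : K = commutator G ⊓ Subgroup.centralizer ({t 0, t 1, t 2} : Set G)) :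
    IsQuasisimple ↥K ∧ (Subgroup.center ↥K).map K.subtype = Subgroup.closure ({t 0 * t 1, t 0 * t 2} : Set G) ∧
      Subgroup.closure ({t 0 * t 1, t 0 * t 2} : Set G) ≤ K ∧
      K = commutator G ⊓ Subgroup.centralizer (Subgroup.closure ({t 0 * t 1, t 0 * t 2} : Set G) : Set G) ∧
      ∃ (F : Type) (_ : Field F) (_ : Fintype F), Fintype.card F = 4 ∧
        Nonempty (↥K ⧸ Subgroup.center ↥K ≃* PSU 6 F 2) := by
  subst hK
  have S := Unique.setting_of hD hp ht
  have hb := T.nb_mem (i := 0) (j := 1) (by decide)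
  have hc := T.nb_mem (i := 0) (j := 2) (by decide)
  have hbc := T.nb_mem (i := 1) (j := 2) (by decide)
  have hprod : ∀ {y : G}, y ∈ D → t 0 * y ∈ commutator G := fun {y} hy =>
    (Subgroup.mul_mem_iff_of_index_two (index_commutator hD hp ht)).2
      (iff_of_false (not_mem_commutator hD hp ht (T.mem 0)) (not_mem_commutator hD hp ht hy))
  have hEK := T.four_le.2 ⟨hprod (T.mem 1), hprod (T.mem 2)⟩
  obtain ⟨κ, hκ⟩ := pair_equiv hD hp ht (T.mem 0) hb hc hbc
  have hqc : qd D (t 0) (t 2) ∈ nb (Dq D (t 0)) (qd D (t 0) (t 1)) := (S.pair_mem (T.mem 0) hb hc).2 ⟨hc, hbc⟩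
  obtain ⟨hqs, ⟨F, iF, iFin, h4, ⟨e⟩⟩, hcen⟩ := (S.quot (T.mem 0)).pair_facts (qd_mem hb) hqc
  have hcmap : (Subgroup.center ↥(commutator G ⊓ Subgroup.centralizer ({t 0, t 1, t 2} : Set G))).map κ.toMonoidHom =
      Subgroup.center _ := by
    ext z
    simp only [Subgroup.mem_map, MulEquiv.coe_toMonoidHom, Subgroup.mem_center_iff]
    constructor
    · rintro ⟨x, hx, rfl⟩ y
      obtain ⟨w, rfl⟩ := κ.surjective y
      rw [← map_mul, ← map_mul, hx w]
    · intro hz
      obtain ⟨x, rfl⟩ := κ.surjective z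
      exact ⟨x, fun w => κ.injective (by rw [map_mul, map_mul]; exact hz _), rfl⟩
  refine ⟨Components.isQuasisimple_of_mulEquiv κ.symm hqs, le_antisymm ?_ ?_, hEK, le_antisymm ?_ ?_,
    F, iF, iFin, h4, ⟨(QuotientGroup.congr _ _ κ hcmap).trans e⟩⟩
  · rintro _ ⟨x, hx, rfl⟩
    obtain ⟨y, hy, hye⟩ : ∃ y : ↥(commutator G ⊓ Subgroup.centralizer ({t 0, t 1, t 2} : Set G)),
        (y : G) ∈ Subgroup.closure ({t 0 * t 1, t 0 * t 2} : Set G) ∧ κ y = κ x := by
      have m1 : t 0 * t 1 ∈ Subgroup.closure ({t 0 * t 1, t 0 * t 2} : Set G) := Subgroup.subset_closure (by simp)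
      have m2 : t 0 * t 2 ∈ Subgroup.closure ({t 0 * t 1, t 0 * t 2} : Set G) := Subgroup.subset_closure (by simp)
      have q : ∀ {y : G}, y ∈ nb D (t 0) → qd D (t 0) (t 0 * y) = qd D (t 0) y := fun hy => by
        rw [qd_mul (S.self_mem (T.mem 0)) (mem_H hy), S.qd_self (T.mem 0), one_mul]
      rcases (hcen (κ x)).1 (hcmap ▸ ⟨x, hx, rfl⟩) with r | r | r | r
      · exact ⟨1, one_mem _, by rw [map_one]; exact Subtype.ext r.symm⟩
      · exact ⟨⟨_, hEK m1⟩, m1, Subtype.ext ((hκ _).trans ((q hb).trans r.symm))⟩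
      · exact ⟨⟨_, hEK m2⟩, m2, Subtype.ext ((hκ _).trans ((q hc).trans r.symm))⟩
      · refine ⟨⟨_, hEK (mul_mem m1 m2)⟩, mul_mem m1 m2, Subtype.ext ((hκ _).trans ?_)⟩
        rw [qd_mul (mul_mem (S.self_mem (T.mem 0)) (mem_H hb)) (mul_mem (S.self_mem (T.mem 0)) (mem_H hc)),
          q hb, q hc, r]
    exact κ.injective hye ▸ hy
  · intro z hz
    refine ⟨⟨z, hEK hz⟩, Subgroup.mem_center_iff.2 fun w => Subtype.ext ?_, rfl⟩
    have hw := Subgroup.mem_centralizer_iff.1 w.2.2
    induction hz using Subgroup.closure_induction with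
    | mem v hv =>
      rcases hv with rfl | rfl
      · exact (((show Commute (w : G) (t 0) from (hw _ (by simp)).symm).mul_right
          (show Commute (w : G) (t 1) from (hw _ (by simp)).symm))).eq
      · exact (((show Commute (w : G) (t 0) from (hw _ (by simp)).symm).mul_right
          (show Commute (w : G) (t 2) from (hw _ (by simp)).symm))).eq
    | one => exact (Commute.one_right (w : G)).eq
    | mul p q _ _ ihp ihq => exact (Commute.mul_right ihp ihq).eq
    | inv p _ ihp => exact (Commute.inv_right ihp).eq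
  · refine fun g hg => ⟨hg.1, Subgroup.mem_centralizer_iff.2 fun z hz => ?_⟩
    induction hz using Subgroup.closure_induction with
    | mem v hv =>
      have hw := Subgroup.mem_centralizer_iff.1 hg.2
      rcases hv with rfl | rfl <;> exact (Commute.mul_left (hw _ (by simp)) (hw _ (by simp))).eq
    | one => exact (Commute.one_left g).eq
    | mul p q _ _ ihp ihq => exact (Commute.mul_left ihp ihq).eq
    | inv p _ ihp => exact (Commute.inv_left ihp).eq
  · exact fun g hg => ⟨hg.1, cent_four S (T.mem 0) hb hc (fun e => hbc.2.1 e.symm) hg.2⟩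

end CfsgLib.KnownB.TypeM24.Triple
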