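import Cfsg.Agent.Lib.KnownB.TypeM24Triple.Main

/-!
The structure of the centraliser of a product of three commuting members in the derived group of type M(24).
-/

set_option autoImplicit false

namespace CfsgLib.KnownB.TypeM24.Triple

open Cfsg CfsgLib.ThreeTransp CfsgLib.Involutions
open CfsgLib.KnownB.TypeM22 CfsgLib.KnownB.TypeM23
open scoped commutatorElement

universe u

variable {G : Type u} [Group G] [Finite G] {D : Set G}

/-- The action of the centraliser of the product on the three members. -/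
theorem exists_action (hD : IsThreeTranspositionGroup D) (hp : IsPrimitiveUnderConj D) (ht : IsOfTypeM24 G D)
    {t : Fin 3 → G} (T : Tri D t) (CL : Subgroup G)
    (hCL : CL = commutator G ⊓ Subgroup.centralizer ({t 0 * t 1 * t 2} : Set G)) :
    ∃ θ : CL →* Equiv.Perm (Fin 3), Function.Surjective θ ∧
      θ.ker = (commutator G ⊓ Subgroup.centralizer ({t 0, t 1, t 2} : Set G)).subgroupOf CL := by
  have S := Unique.setting_of hD hp ht
  have hmem : ∀ c : CL, ∀ i, ∃ k, (c : G) * t i * (c : G)⁻¹ = t k := fun c i => by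
    have hc : (c : G) * (t 0 * t 1 * t 2) = t 0 * t 1 * t 2 * c :=
      Subgroup.mem_centralizer_singleton_iff.1 (hCL.le c.2).2
    refine T.eq_range S (s := fun i => (c : G) * t i * (c : G)⁻¹)
      ⟨fun i => S.cls.conj _ _ (T.mem i), fun a b e => T.inj (mul_left_cancel (mul_right_cancel e)),
        fun a b => (commute_conj_iff _).2 (T.comm a b)⟩ ?_ i
    show (c : G) * t 0 * (c : G)⁻¹ * ((c : G) * t 1 * (c : G)⁻¹) * ((c : G) * t 2 * (c : G)⁻¹) = _
    rw [show (c : G) * t 0 * (c : G)⁻¹ * ((c : G) * t 1 * (c : G)⁻¹) * ((c : G) * t 2 * (c : G)⁻¹) =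
      (c : G) * (t 0 * t 1 * t 2) * (c : G)⁻¹ by group, hc, mul_inv_cancel_right]
  choose f hf using hmem
  have hmul : ∀ c d i, f (c * d) i = f c (f d i) := fun c d i => T.inj (by
    rw [← hf, ← hf, ← hf]; simp [mul_assoc])
  have hone : ∀ i, f 1 i = i := fun i => T.inj (by rw [← hf]; simp)
  obtain ⟨θ, hθ⟩ : ∃ θ : CL →* Equiv.Perm (Fin 3), ∀ c i, θ c i = f c i :=
    ⟨MonoidHom.mk' (fun c => ⟨f c, f c⁻¹, fun i => by rw [← hmul, inv_mul_cancel, hone],
      fun i => by rw [← hmul, mul_inv_cancel, hone]⟩) fun c d => Equiv.ext (hmul c d), fun _ _ => rfl⟩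
  refine ⟨θ, fun σ => ?_, ?_⟩
  · obtain ⟨g, hg⟩ := trans hD hp ht T (u := t ∘ σ)
      ⟨fun i => T.mem _, T.inj.comp σ.injective, fun i j => T.comm _ _⟩
    have key : ∀ x : G, (∀ i, x * t i * x⁻¹ = t (σ i)) → x ∈ commutator G → ∃ c, θ c = σ := by
      intro x hx hL
      have hj : x * (t 0 * t 1 * t 2) * x⁻¹ = t 0 * t 1 * t 2 := by
        rw [show x * (t 0 * t 1 * t 2) * x⁻¹ = (x * t 0 * x⁻¹) * (x * t 1 * x⁻¹) * (x * t 2 * x⁻¹) by group,
          hx, hx, hx, prod_perm T.comm σ]
      have hxc : x ∈ CL := hCL ▸ ⟨hL, Subgroup.mem_centralizer_singleton_iff.2 (mul_inv_eq_iff_eq_mul.1 hj)⟩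
      exact ⟨⟨x, hxc⟩, Equiv.ext fun i => T.inj (by rw [hθ, ← hf]; exact hx i)⟩
    by_cases hL : g ∈ commutator G
    · exact key g hg hL
    · refine key (g * t 0) (fun i => ?_) ((Subgroup.mul_mem_iff_of_index_two (index_commutator hD hp ht)).2
        (iff_of_false hL (not_mem_commutator hD hp ht (T.mem 0))))
      rw [show g * t 0 * t i * (g * t 0)⁻¹ = g * (t 0 * t i * (t 0)⁻¹) * g⁻¹ by group,
        (T.comm 0 i).eq, mul_inv_cancel_right]
      exact hg i
  · ext c
    have hcL : (c : G) ∈ commutator G := (hCL.le c.2).1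
    rw [MonoidHom.mem_ker, Subgroup.mem_subgroupOf]
    constructor
    · intro h
      have h' : ∀ i, t i * (c : G) = (c : G) * t i := fun i => by
        refine (mul_inv_eq_iff_eq_mul.1 ?_).symm
        rw [hf, ← hθ, h, Equiv.Perm.one_apply]
      exact ⟨hcL, Subgroup.mem_centralizer_iff.2 (by rintro y (rfl | rfl | rfl) <;> exact h' _)⟩
    · intro h
      have h' := Subgroup.mem_centralizer_iff.1 h.2
      refine Equiv.ext fun i => T.inj ?_
      rw [hθ, ← hf, Equiv.Perm.one_apply]
      rw [mul_inv_eq_iff_eq_mul]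
      fin_cases i <;> exact (h' _ (by simp)).symm

/-- The structure of the centraliser of the product. -/
theorem product_centralizer (hD : IsThreeTranspositionGroup D) (hp : IsPrimitiveUnderConj D) (ht : IsOfTypeM24 G D)
    {t : Fin 3 → G} (T : Tri D t) (E CL K : Subgroup G)
    (hE : E = Subgroup.closure ({t 0 * t 1, t 0 * t 2} : Set G))
    (hCL : CL = commutator G ⊓ Subgroup.centralizer ({t 0 * t 1 * t 2} : Set G))
    (hK : K = (Cfsg.generalizedFittingSubgroup ↥CL).map CL.subtype) :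
    IsQuasisimple ↥K ∧ (Subgroup.center ↥K).map K.subtype = E ∧
      K = commutator G ⊓ Subgroup.centralizer (E : Set G) ∧
      (∃ (_ : (E.subgroupOf K).Normal) (F : Type) (_ : Field F) (_ : Fintype F), Fintype.card F = 4 ∧
        Nonempty (↥K ⧸ E.subgroupOf K ≃* PSU 6 F 2)) ∧
      ∃ _ : (K.subgroupOf CL).Normal, Nonempty (↥CL ⧸ K.subgroupOf CL ≃* Equiv.Perm (Fin 3)) ∧ E ≤ CL ∧
        ∃ (_ : (E.subgroupOf CL).Normal) (F : Type) (_ : Field F) (_ : Fintype F), Fintype.card F = 4 ∧
          Nonempty (↥CL ⧸ E.subgroupOf CL ≃* MulAut (PSU 6 F 2)) := by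
  obtain ⟨P, hP⟩ : ∃ P, P = commutator G ⊓ Subgroup.centralizer ({t 0, t 1, t 2} : Set G) := ⟨_, rfl⟩
  obtain ⟨hqs, hcen, hEP, hPE, F, iF, iFin, h4, ⟨e⟩⟩ := kernel_facts hD hp ht T P hP
  rw [← hE] at hcen hEP hPE
  obtain ⟨θ, hsurj, hker⟩ := exists_action hD hp ht T CL hCL
  rw [← hP] at hker
  have hPC : P ≤ CL := by
    rw [hP, hCL]
    refine fun x hx => ⟨hx.1, Subgroup.mem_centralizer_singleton_iff.2 ?_⟩
    have h := Subgroup.mem_centralizer_iff.1 hx.2
    exact ((Commute.mul_left (Commute.mul_left (h _ (by simp)) (h _ (by simp))) (h _ (by simp)))).symm.eq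
  haveI hPn : (P.subgroupOf CL).Normal := hker ▸ MonoidHom.normal_ker θ
  let ε : ↥(P.subgroupOf CL) ≃* ↥P := Subgroup.subgroupOfEquivOfLe hPC
  have hcenN : (Subgroup.center ↥(P.subgroupOf CL)).map (P.subgroupOf CL).subtype = E.subgroupOf CL := by
    ext x
    rw [Subgroup.mem_subgroupOf, ← hcen, Subgroup.mem_map, Subgroup.mem_map]
    constructor
    · rintro ⟨y, hy, rfl⟩
      exact ⟨ε y, Subgroup.mem_center_iff.2 fun w => by
        obtain ⟨v, rfl⟩ := ε.surjective w
        rw [← map_mul, ← map_mul, Subgroup.mem_center_iff.1 hy v], rfl⟩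
    · rintro ⟨y, hy, hyx⟩
      refine ⟨ε.symm y, Subgroup.mem_center_iff.2 fun w => ε.injective ?_, Subtype.ext hyx⟩
      rw [map_mul, map_mul, ε.apply_symm_apply]
      exact Subgroup.mem_center_iff.1 hy _
  have hqsN : IsQuasisimple ↥(P.subgroupOf CL) := Components.isQuasisimple_of_mulEquiv ε.symm hqs
  have hcent : Subgroup.centralizer (P.subgroupOf CL : Set CL) ≤ P.subgroupOf CL := by
    intro c hc
    have h1 : (c : G) ∈ commutator G ⊓ Subgroup.centralizer (E : Set G) :=
      ⟨(hCL.le c.2).1, Subgroup.mem_centralizer_iff.2 fun z hz =>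
        congrArg Subtype.val (Subgroup.mem_centralizer_iff.1 hc ⟨z, hPC (hEP hz)⟩ (Subgroup.mem_subgroupOf.2 (hEP hz)))⟩
    rw [← hPE] at h1
    exact h1
  have hK' : K = P := by
    rw [hK, fstar_eq (P.subgroupOf CL) hqsN hcent, Subgroup.map_subgroupOf_eq_of_le hPC]
  subst hK'
  haveI hEn : (E.subgroupOf CL).Normal := by
    rw [← hcenN]
    exact ⟨fun x hx c => by
      obtain ⟨y, hy, rfl⟩ := hx
      refine ⟨MulAut.conjNormal c y, Subgroup.mem_center_iff.2 fun w => ?_, MulAut.conjNormal_apply c y⟩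
      obtain ⟨v, rfl⟩ := (MulAut.conjNormal c : MulAut (K.subgroupOf CL)).surjective w
      rw [← map_mul, ← map_mul, Subgroup.mem_center_iff.1 hy v]⟩
  have hcK : E.subgroupOf K = Subgroup.center ↥K := by
    rw [← hcen, Subgroup.subgroupOf, Subgroup.comap_map_eq_self_of_injective Subtype.val_injective]
  haveI hnK : (E.subgroupOf K).Normal := hcK ▸ inferInstance
  refine ⟨hqs, hcen, hPE, ⟨hnK, F, iF, iFin, h4, ⟨(QuotientGroup.quotientMulEquivOfEq hcK).trans e⟩⟩, hPn,
    ⟨(QuotientGroup.quotientMulEquivOfEq hker.symm).trans (QuotientGroup.quotientKerEquivOfSurjective θ hsurj)⟩,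
    hEP.trans hPC, hEn, F, iF, iFin, h4, ?_⟩
  -- the automorphisms of the unitary group
  have hmapc : ∀ a : MulAut (K.subgroupOf CL), (Subgroup.center ↥(K.subgroupOf CL)).map a.toMonoidHom =
      Subgroup.center ↥(K.subgroupOf CL) := fun a => by
    ext z
    simp only [Subgroup.mem_map, MulEquiv.coe_toMonoidHom, Subgroup.mem_center_iff]
    constructor
    · rintro ⟨x, hx, rfl⟩ y
      obtain ⟨w, rfl⟩ := a.surjective y
      rw [← map_mul, ← map_mul, hx w]
    · intro hz
      obtain ⟨x, rfl⟩ := a.surjective z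
      exact ⟨x, fun w => a.injective (by rw [map_mul, map_mul]; exact hz _), rfl⟩
  have hcc : (Subgroup.center ↥(K.subgroupOf CL)).map ε.toMonoidHom = Subgroup.center ↥K := by
    ext z
    simp only [Subgroup.mem_map, MulEquiv.coe_toMonoidHom, Subgroup.mem_center_iff]
    constructor
    · rintro ⟨x, hx, rfl⟩ y
      obtain ⟨w, rfl⟩ := ε.surjective y
      rw [← map_mul, ← map_mul, hx w]
    · intro hz
      obtain ⟨x, rfl⟩ := ε.surjective z
      exact ⟨x, fun w => ε.injective (by rw [map_mul, map_mul]; exact hz _), rfl⟩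
  let e' := (QuotientGroup.congr _ _ ε hcc).trans e
  obtain ⟨ρ, hρ⟩ : ∃ ρ : CL →* MulAut (PSU 6 F 2), ∀ c x,
      ρ c (e' (QuotientGroup.mk x)) = e' (QuotientGroup.mk (MulAut.conjNormal c x)) := by
    refine ⟨(MulAut.congr e').toMonoidHom.comp (MonoidHom.mk'
      (fun c => QuotientGroup.congr _ _ (MulAut.conjNormal c) (hmapc _)) fun c d => ?_), fun c x => ?_⟩
    · refine MulEquiv.ext fun q => ?_
      induction q using QuotientGroup.induction_on with
      | H z =>
        show (QuotientGroup.mk (MulAut.conjNormal (c * d) z) : _ ⧸ Subgroup.center ↥(K.subgroupOf CL)) = _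
        rw [map_mul]
        rfl
    · simp only [MonoidHom.comp_apply, MonoidHom.mk'_apply, MulEquiv.coe_toMonoidHom, MulAut.congr_apply,
        MulEquiv.trans_apply, MulEquiv.symm_apply_apply]
      rfl
  have hρker : ρ.ker = E.subgroupOf CL := by
    refine le_antisymm (fun c hc => ?_) fun c hc => ?_
    · have hcz : ∀ k : K.subgroupOf CL, ∃ z : K.subgroupOf CL, z ∈ Subgroup.center ↥(K.subgroupOf CL) ∧
          c * k * c⁻¹ = (z : CL) * k := fun k => by
        refine ⟨MulAut.conjNormal c k * k⁻¹, ?_, ?_⟩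
        · have h1 := hρ c k
          rw [MonoidHom.mem_ker.1 hc, MulAut.one_apply] at h1
          have h2 := QuotientGroup.eq.1 (e'.injective h1)
          have h3 : k * (k⁻¹ * MulAut.conjNormal c k) * k⁻¹ ∈ Subgroup.center ↥(K.subgroupOf CL) :=
            Subgroup.Normal.conj_mem inferInstance _ h2 k
          rwa [mul_inv_cancel_left] at h3
        · rw [Subgroup.coe_mul, Subgroup.coe_inv, MulAut.conjNormal_apply]
          group
      have hcK' : c ∈ K.subgroupOf CL := hcent (Subgroup.mem_centralizer_iff.2 fun k hk => by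
        have h := centralizes_of_central (K.subgroupOf CL)
          ((Group.isPerfect_def.1 hqsN.1) : ⁅(⊤ : Subgroup ↥(K.subgroupOf CL)), ⊤⁆ = ⊤) hcz ⟨k, hk⟩
        exact (mul_inv_eq_iff_eq_mul.1 h).symm)
      have hcenter : (⟨c, hcK'⟩ : K.subgroupOf CL) ∈ Subgroup.center _ := Subgroup.mem_center_iff.2 fun k => by
        have h := centralizes_of_central (K.subgroupOf CL)
          ((Group.isPerfect_def.1 hqsN.1) : ⁅(⊤ : Subgroup ↥(K.subgroupOf CL)), ⊤⁆ = ⊤) hcz k
        exact Subtype.ext (mul_inv_eq_iff_eq_mul.1 h).symm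
      rw [← hcenN]
      exact ⟨_, hcenter, rfl⟩
    · rw [← hcenN] at hc
      obtain ⟨y, hy, rfl⟩ := hc
      refine MonoidHom.mem_ker.2 (MulEquiv.ext fun q => ?_)
      obtain ⟨q, rfl⟩ := e'.surjective q
      induction q using QuotientGroup.induction_on with
      | H x =>
        rw [hρ, MulAut.one_apply]
        congr 2
        refine Subtype.ext ?_
        rw [MulAut.conjNormal_apply]
        exact mul_inv_eq_iff_eq_mul.2 (congrArg Subtype.val (Subgroup.mem_center_iff.1 hy x)).symm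
  let ι := QuotientGroup.kerLift ρ
  have hcard : Nat.card (CL ⧸ ρ.ker) = 6 * Nat.card (PSU 6 F 2) := by
    have h1 := Subgroup.relIndex_mul_index (show ρ.ker ≤ θ.ker by
      rw [hρker, hker]; exact fun x hx => hEP hx)
    rw [← Subgroup.index_eq_card, ← h1, Subgroup.index_ker θ, MonoidHom.range_eq_top.2 hsurj, Subgroup.card_top,
      Nat.card_perm, Nat.card_fin, mul_comm]
    congr 1
    rw [hρker, ← hcenN, hker, Subgroup.relIndex,
      show ((Subgroup.center ↥(K.subgroupOf CL)).map (K.subgroupOf CL).subtype).subgroupOf (K.subgroupOf CL) =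
        Subgroup.center ↥(K.subgroupOf CL) from
        Subgroup.comap_map_eq_self_of_injective (Subgroup.subtype_injective _) _,
      Subgroup.index_eq_card, Nat.card_congr e'.toEquiv]
  have hbij : Function.Bijective ι := Function.Injective.bijective_of_nat_card_le (QuotientGroup.kerLift_injective ρ)
    (hcard ▸ card_mulAut h4)
  exact ⟨(QuotientGroup.quotientMulEquivOfEq hρker.symm).trans (MulEquiv.ofBijective ι hbij)⟩

end CfsgLib.KnownB.TypeM24.Triple
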